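import Groth.Agent.BiextSplit.Class
import Groth.Agent.BiextSplit.InjOver
import Groth.Prelude.Def_CGrpSh2
import Mathlib.CategoryTheory.Sites.CoverPreserving
import Mathlib.CategoryTheory.Sites.PreservesSheafification

/-!
# The long exact sequence of the internal Hom in the first variable (low degrees) and biduality
-/

set_option backward.isDefEq.respectTransparency false

universe u

open CategoryTheory CategoryTheory.Limits Opposite

namespace Groth.Agent.HomShDual

variable {C : Type (u + 1)} [Category.{u} C] {J : GrothendieckTopology C}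

theorem preservesFiniteLimits_over [HasSheafify J AddCommGrpCat.{u + 1}] (X : C) :
    PreservesFiniteLimits (J.overPullback AddCommGrpCat.{u + 1} X) := by
  have : PreservesFiniteLimits (J.overPullback AddCommGrpCat.{u + 1} X ⋙
      sheafToPresheaf (J.over X) AddCommGrpCat.{u + 1}) :=
    inferInstanceAs (PreservesFiniteLimits (sheafToPresheaf J AddCommGrpCat.{u + 1} ⋙
      (Functor.whiskeringLeft _ _ AddCommGrpCat.{u + 1}).obj (Over.forget X).op))
  exact preservesFiniteLimits_of_reflects_of_preserves _ (sheafToPresheaf (J.over X) AddCommGrpCat.{u + 1})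

theorem preservesFiniteColimits_over (X : C) :
    PreservesFiniteColimits (J.overPullback AddCommGrpCat.{u + 1} X) := by
  haveI : (J.overPullback AddCommGrpCat.{u + 1} X).IsLeftAdjoint :=
    ⟨_, ⟨(Over.forget X).sheafAdjunctionCocontinuous AddCommGrpCat.{u + 1} (J.over X) J⟩⟩
  infer_instance

variable [HasSheafify J AddCommGrpCat.{u + 1}]

theorem shortExact_over {S : ShortComplex (Sheaf J AddCommGrpCat.{u + 1})} (hS : S.ShortExact) (X : C)
    [HasSheafify (J.over X) AddCommGrpCat.{u + 1}] :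
    (S.map (J.overPullback AddCommGrpCat.{u + 1} X)).ShortExact := by
  haveI := preservesFiniteLimits_over (J := J) X
  haveI := preservesFiniteColimits_over (J := J) X
  exact hS.map_of_exact _

/-- The internal Hom is left exact in its first variable. -/
theorem preservesFiniteLimits_flip [∀ X, HasSheafify (J.over X) AddCommGrpCat.{u + 1}]
    (M : Sheaf J AddCommGrpCat.{u + 1}) : PreservesFiniteLimits ((HomSh.homShBi J).flip.obj M) := by
  have : PreservesFiniteLimits ((HomSh.homShBi J).flip.obj M ⋙ sheafToPresheaf J AddCommGrpCat.{u + 1}) := by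
    refine preservesFiniteLimits_of_evaluation _ fun X => ?_
    let e : ((HomSh.homShBi J).flip.obj M ⋙ sheafToPresheaf J AddCommGrpCat.{u + 1}) ⋙ (evaluation _ _).obj X ≅
        (J.overPullback AddCommGrpCat.{u + 1} X.unop).op ⋙ preadditiveYoneda.obj (M.over X.unop) :=
      NatIso.ofComponents (fun N => Iso.refl _) fun {N N'} α => AddCommGrpCat.ext fun φ => by
        show (J.overPullback _ X.unop).map α.unop ≫ φ ≫ (J.overPullback _ X.unop).map (𝟙 M) =
          (J.overPullback _ X.unop).map α.unop ≫ φ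
        erw [CategoryTheory.Functor.map_id, Category.comp_id]
    haveI := preservesFiniteColimits_over (J := J) X.unop
    haveI : PreservesFiniteLimits (J.overPullback AddCommGrpCat.{u + 1} X.unop).op :=
      preservesFiniteLimits_op _
    exact preservesFiniteLimits_of_natIso e.symm
  exact preservesFiniteLimits_of_reflects_of_preserves _ (sheafToPresheaf J AddCommGrpCat.{u + 1})

variable [∀ X, HasSheafify (J.over X) AddCommGrpCat.{u + 1}]

theorem w_dual {S : ShortComplex (Sheaf J AddCommGrpCat.{u + 1})} (M : Sheaf J AddCommGrpCat.{u + 1}) :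
    HomSh.homShMap J S.g (𝟙 M) ≫ HomSh.homShMap J S.f (𝟙 M) = 0 := by
  rw [← HomSh.homShMap_comp, S.zero, Category.comp_id]
  exact ((HomSh.homShBi J).flip.obj M).map_zero (op S.X₃) (op S.X₁)

/-- The dual of a short complex. -/
noncomputable def dualCx (S : ShortComplex (Sheaf J AddCommGrpCat.{u + 1})) (M : Sheaf J AddCommGrpCat.{u + 1}) :
    ShortComplex (Sheaf J AddCommGrpCat.{u + 1}) :=
  ShortComplex.mk (HomSh.homShMap J S.g (𝟙 M)) (HomSh.homShMap J S.f (𝟙 M)) (w_dual M)

/-- The dual of a short exact sequence is left exact. -/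
theorem dualCx_left_exact {S : ShortComplex (Sheaf J AddCommGrpCat.{u + 1})} (hS : S.ShortExact)
    (M : Sheaf J AddCommGrpCat.{u + 1}) : (dualCx S M).Exact ∧ Mono (dualCx S M).f := by
  haveI := preservesFiniteLimits_flip (J := J) M
  have h : (S.op.map ((HomSh.homShBi J).flip.obj M)).Exact ∧ Mono (S.op.map ((HomSh.homShBi J).flip.obj M)).f := by
    refine ⟨ShortComplex.exact_of_f_is_kernel (S.op.map ((HomSh.homShBi J).flip.obj M))
      ((KernelFork.ofι S.op.f S.op.zero).mapIsLimit hS.op.fIsKernel ((HomSh.homShBi J).flip.obj M)), ?_⟩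
    haveI := hS.op.mono_f
    exact ((HomSh.homShBi J).flip.obj M).map_mono S.op.f
  exact h

/-- The correction step on a member of the covering. -/
theorem extend_aux {S : ShortComplex (Sheaf J AddCommGrpCat.{u + 1})} (hS : S.ShortExact)
    {M I Z : Sheaf J AddCommGrpCat.{u + 1}} {ι : M ⟶ I} {π : I ⟶ Z} {w : ι ≫ π = 0}
    (hI : (ShortComplex.mk ι π w).ShortExact) {T V : C} (a : V ⟶ T)
    (φ : S.X₁.over T ⟶ M.over T) (ψ : S.X₂.over T ⟶ I.over T)
    (hψ : (J.overPullback _ T).map S.f ≫ ψ = φ ≫ (J.overPullback _ T).map ι)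
    (c : S.X₃.over T ⟶ Z.over T) (hc : (J.overPullback _ T).map S.g ≫ c = ψ ≫ (J.overPullback _ T).map π)
    (d : S.X₃.over V ⟶ I.over V)
    (hd : (HomSh.homShMap J (𝟙 S.X₃) π).hom.app (op V) d = (HomSh.homSh J S.X₃ Z).obj.map a.op c) :
    Presheaf.imageSieve (HomSh.homShMap J S.f (𝟙 M)).hom (U := T) φ a := by
  let oV := J.overPullback AddCommGrpCat.{u + 1} V
  let R := J.overMapPullback AddCommGrpCat.{u + 1} a
  let φV : oV.obj S.X₁ ⟶ oV.obj M := R.map φ
  let ψV : oV.obj S.X₂ ⟶ oV.obj I := R.map ψ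
  let cV : oV.obj S.X₃ ⟶ oV.obj Z := R.map c
  let dV : oV.obj S.X₃ ⟶ oV.obj I := d
  have hd' : dV ≫ oV.map π = cV := by
    refine Eq.trans ?_ hd
    show _ = oV.map (𝟙 S.X₃) ≫ dV ≫ oV.map π
    rw [CategoryTheory.Functor.map_id, Category.id_comp]
  have e1 : oV.map S.g ≫ cV = ψV ≫ oV.map π :=
    ((R.map_comp _ _).symm.trans (congrArg (fun θ => R.map θ) hc)).trans (R.map_comp _ _)
  have e2 : oV.map S.f ≫ ψV = φV ≫ oV.map ι :=
    ((R.map_comp _ _).symm.trans (congrArg (fun θ => R.map θ) hψ)).trans (R.map_comp _ _)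
  have hχ₀ : (ψV - oV.map S.g ≫ dV) ≫ oV.map π = 0 := by
    rw [Preadditive.sub_comp, Category.assoc, hd', e1, sub_self]
  have hIV := shortExact_over hI V
  haveI : Mono (oV.map ι) := hIV.mono_f
  let χ : oV.obj S.X₂ ⟶ oV.obj M := hIV.fIsKernel.lift (KernelFork.ofι _ hχ₀)
  have hχ : χ ≫ oV.map ι = ψV - oV.map S.g ≫ dV := hIV.fIsKernel.fac _ WalkingParallelPair.zero
  refine ⟨χ, ?_⟩
  show oV.map S.f ≫ χ ≫ oV.map (𝟙 M) = φV
  rw [CategoryTheory.Functor.map_id, Category.comp_id, ← cancel_mono (oV.map ι), Category.assoc, hχ,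
    Preadditive.comp_sub, ← Category.assoc, ← Functor.map_comp, S.zero, Functor.map_zero, zero_comp, sub_zero, e2]

/-- Dual sections of the sub-object extend locally, given an injective copresentation with epimorphic dual. -/
theorem locallySurjective_dual [J.HasSheafCompose (forget AddCommGrpCat.{u + 1})]
    {S : ShortComplex (Sheaf J AddCommGrpCat.{u + 1})} (hS : S.ShortExact)
    {M I Z : Sheaf J AddCommGrpCat.{u + 1}} [Injective I] {ι : M ⟶ I} {π : I ⟶ Z} {w : ι ≫ π = 0}
    (hI : (ShortComplex.mk ι π w).ShortExact)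
    (hls : Presheaf.IsLocallySurjective J (HomSh.homShMap J (𝟙 S.X₃) π).hom) :
    Presheaf.IsLocallySurjective J (HomSh.homShMap J S.f (𝟙 M)).hom := by
  refine ⟨fun {T} φ => ?_⟩
  let oT := J.overPullback AddCommGrpCat.{u + 1} T
  have hST := shortExact_over hS T
  haveI : Mono (oT.map S.f) := hST.mono_f
  haveI : Injective (oT.obj I) := BiextSplit.InjOver.injective_over T I
  obtain ⟨ψ, hψ⟩ := Injective.factors ((φ : oT.obj S.X₁ ⟶ oT.obj M) ≫ oT.map ι) (oT.map S.f)
  have hz : oT.map S.f ≫ ψ ≫ oT.map π = 0 := by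
    rw [← Category.assoc, hψ, Category.assoc, ← Functor.map_comp, w, Functor.map_zero, comp_zero]
  let c : oT.obj S.X₃ ⟶ oT.obj Z := hST.gIsCokernel.desc (CokernelCofork.ofπ _ hz)
  have hc : oT.map S.g ≫ c = ψ ≫ oT.map π := hST.gIsCokernel.fac _ WalkingParallelPair.one
  refine J.superset_covering ?_ (hls.imageSieve_mem (U := T) c)
  intro V a ha
  obtain ⟨d, hd⟩ := ha
  exact extend_aux hS hI a φ ψ hψ c hc d hd

/-- A vanishing first derived functor makes the image of the projection of an injective copresentation epi. -/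
theorem epi_of_isZero_R1 {A A' : Type*} [Category A] [Abelian A] [EnoughInjectives A] [Category A'] [Abelian A']
    (F : A ⥤ A') [F.Additive] [PreservesFiniteLimits F] {X I Z : A} {f : X ⟶ I} {g : I ⟶ Z} {w : f ≫ g = 0}
    [Injective I] (hS : (ShortComplex.mk f g w).ShortExact) (h : IsZero ((F.rightDerived 1).obj X)) :
    Epi (F.map g) := by
  obtain ⟨e⟩ := Groth.Agent.QCoh.nonempty_R1_iso F hS (F.isZero_rightDerived_obj_injective_succ 0 _)
  exact Preadditive.epi_of_isZero_cokernel (F.map g) (h.of_iso e.symm)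

/-- Vanishing of the first local Ext gives local lifts into an injective copresentation. -/
theorem locallySurjective_of_isZero [EnoughInjectives (Sheaf J AddCommGrpCat.{u + 1})] [J.HasSheafCompose (forget AddCommGrpCat.{u + 1})]
    [Balanced (Sheaf J AddCommGrpCat.{u + 1})]
    {Q M I Z : Sheaf J AddCommGrpCat.{u + 1}} [Injective I] {ι : M ⟶ I} {π : I ⟶ Z} {w : ι ≫ π = 0}
    (hI : (ShortComplex.mk ι π w).ShortExact)
    (hExt : IsZero (((HomSh.homShFunctor J Q).rightDerived 1).obj M)) :
    Presheaf.IsLocallySurjective J (HomSh.homShMap J (𝟙 Q) π).hom := by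
  haveI := BiextSplit.preservesFiniteLimits_homShFunctor (J := J) Q
  haveI h : Epi ((HomSh.homShFunctor J Q).map π) := epi_of_isZero_R1 (HomSh.homShFunctor J Q) hI hExt
  haveI : Epi (HomSh.homShMap J (𝟙 Q) π) := h
  exact (Sheaf.isLocallySurjective_iff_epi' AddCommGrpCat.{u + 1} (HomSh.homShMap J (𝟙 Q) π)).2 this

/-- If the first local Ext sheaf of the quotient vanishes, dual sections of the sub-object extend locally. -/
theorem epi_dual [EnoughInjectives (Sheaf J AddCommGrpCat.{u + 1})] [J.HasSheafCompose (forget AddCommGrpCat.{u + 1})]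
    [Balanced (Sheaf J AddCommGrpCat.{u + 1})]
    {S : ShortComplex (Sheaf J AddCommGrpCat.{u + 1})} (hS : S.ShortExact) (M : Sheaf J AddCommGrpCat.{u + 1})
    (hExt : IsZero (((HomSh.homShFunctor J S.X₃).rightDerived 1).obj M)) :
    Epi (HomSh.homShMap J S.f (𝟙 M)) :=
  (Sheaf.isLocallySurjective_iff_epi' AddCommGrpCat.{u + 1} (HomSh.homShMap J S.f (𝟙 M))).1
    (locallySurjective_dual hS
      (ShortComplex.ShortExact.mk' (S := ShortComplex.mk (Injective.ι M) (cokernel.π (Injective.ι M)) (cokernel.condition _))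
        (ShortComplex.exact_of_g_is_cokernel _ (cokernelIsCokernel _)) inferInstance inferInstance)
      (locallySurjective_of_isZero
        (ShortComplex.ShortExact.mk' (S := ShortComplex.mk (Injective.ι M) (cokernel.π (Injective.ι M)) (cokernel.condition _))
          (ShortComplex.exact_of_g_is_cokernel _ (cokernelIsCokernel _)) inferInstance inferInstance) hExt))

/-- The dual of a short exact sequence whose quotient has no first local Ext is short exact. -/
theorem shortExact_dual [EnoughInjectives (Sheaf J AddCommGrpCat.{u + 1})] [J.HasSheafCompose (forget AddCommGrpCat.{u + 1})]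
    [Balanced (Sheaf J AddCommGrpCat.{u + 1})]
    {S : ShortComplex (Sheaf J AddCommGrpCat.{u + 1})} (hS : S.ShortExact) (M : Sheaf J AddCommGrpCat.{u + 1})
    (hExt : IsZero (((HomSh.homShFunctor J S.X₃).rightDerived 1).obj M)) : (dualCx S M).ShortExact :=
  { exact := (dualCx_left_exact hS M).1
    mono_f := (dualCx_left_exact hS M).2
    epi_g := epi_dual hS M hExt }

omit [HasSheafify J AddCommGrpCat.{u + 1}] [∀ X, HasSheafify (J.over X) AddCommGrpCat.{u + 1}] in
/-- The double-duality map is natural. -/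
theorem bidual_naturality {F G : Sheaf J AddCommGrpCat.{u + 1}} (α : F ⟶ G) (M : Sheaf J AddCommGrpCat.{u + 1}) :
    α ≫ HomSh.bidualMap J G M =
      HomSh.bidualMap J F M ≫ HomSh.homShMap J (HomSh.homShMap J α (𝟙 M)) (𝟙 M) := by
  refine Sheaf.hom_ext (NatTrans.ext (funext fun X => AddCommGrpCat.ext fun s => ?_))
  refine Sheaf.hom_ext (NatTrans.ext (funext fun U => AddCommGrpCat.ext fun φ => ?_))
  show HomSh.ev J φ (G.obj.map (unop U).hom.op (α.hom.app X s)) =
    HomSh.ev J φ (α.hom.app (op (unop U).left) (F.obj.map (unop U).hom.op s))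
  rw [← NatTrans.naturality_apply α.hom (unop U).hom.op s]

/-- Biduality passes to extensions whose quotient has no first local Ext. -/
theorem isIso_bidual [EnoughInjectives (Sheaf J AddCommGrpCat.{u + 1})] [J.HasSheafCompose (forget AddCommGrpCat.{u + 1})]
    [Balanced (Sheaf J AddCommGrpCat.{u + 1})]
    {S : ShortComplex (Sheaf J AddCommGrpCat.{u + 1})} (hS : S.ShortExact) (M : Sheaf J AddCommGrpCat.{u + 1})
    (hExt : IsZero (((HomSh.homShFunctor J S.X₃).rightDerived 1).obj M))
    [IsIso (HomSh.bidualMap J S.X₁ M)] [IsIso (HomSh.bidualMap J S.X₃ M)] :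
    IsIso (HomSh.bidualMap J S.X₂ M) := by
  have h1 := dualCx_left_exact (shortExact_dual hS M hExt) M
  let T := dualCx (dualCx S M) M
  let φ : S ⟶ T :=
    { τ₁ := HomSh.bidualMap J S.X₁ M
      τ₂ := HomSh.bidualMap J S.X₂ M
      τ₃ := HomSh.bidualMap J S.X₃ M
      comm₁₂ := (bidual_naturality S.f M).symm
      comm₂₃ := (bidual_naturality S.g M).symm }
  haveI : Epi (S.g ≫ φ.τ₃) := by haveI := hS.epi_g; exact epi_comp _ _
  haveI : Epi T.g := by
    have : Epi (φ.τ₂ ≫ T.g) := by rw [φ.comm₂₃]; infer_instance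
    exact epi_of_epi φ.τ₂ T.g
  have hT : T.ShortExact := { exact := h1.1, mono_f := h1.2, epi_g := inferInstance }
  haveI : IsIso φ.τ₁ := inferInstanceAs (IsIso (HomSh.bidualMap J S.X₁ M))
  haveI : IsIso φ.τ₃ := inferInstanceAs (IsIso (HomSh.bidualMap J S.X₃ M))
  exact @ShortComplex.isIso₂_of_shortExact_of_isIso₁₃' _ _ _ _ _ _ φ hS hT ‹_› ‹_›

end Groth.Agent.HomShDual

namespace Groth.Agent.HomShDual

variable {C : Type (u + 1)} [Category.{u} C] {J : GrothendieckTopology C}

/-- Biduality for extensions, in terms of the local Ext sheaf. -/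
theorem isIso_bidual_extSh [HasSheafify J AddCommGrpCat.{u + 1}] [∀ X, HasSheafify (J.over X) AddCommGrpCat.{u + 1}]
    [EnoughInjectives (Sheaf J AddCommGrpCat.{u + 1})] [J.HasSheafCompose (forget AddCommGrpCat.{u + 1})]
    [Balanced (Sheaf J AddCommGrpCat.{u + 1})]
    (A B D M : Sheaf J AddCommGrpCat.{u + 1}) (f : A ⟶ B) (g : B ⟶ D) (w : f ≫ g = 0)
    (hS : (ShortComplex.mk f g w).ShortExact) (hExt : IsZero ((HomSh.extSh J D 1).obj M))
    (h₁ : IsIso (HomSh.bidualMap J A M)) (h₃ : IsIso (HomSh.bidualMap J D M)) :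
    IsIso (HomSh.bidualMap J B M) := by
  have h : IsZero (((HomSh.homShFunctor J D).rightDerived 1).obj M) :=
    hExt.of_iso (eqToIso (congrArg (fun Φ => Φ.obj M) (HomSh.extSh_def J D 1)).symm)
  have e₁ : (ShortComplex.mk f g w).X₁ = A := rfl
  have e₂ : (ShortComplex.mk f g w).X₂ = B := rfl
  have e₃ : (ShortComplex.mk f g w).X₃ = D := rfl
  exact e₂ ▸ @isIso_bidual C _ J _ _ _ _ _ (ShortComplex.mk f g w) hS M
    (Eq.ndrec (motive := fun X => IsZero (((HomSh.homShFunctor J X).rightDerived 1).obj M)) h e₃.symm)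
    (Eq.ndrec (motive := fun X => IsIso (HomSh.bidualMap J X M)) h₁ e₁.symm)
    (Eq.ndrec (motive := fun X => IsIso (HomSh.bidualMap J X M)) h₃ e₃.symm)

end Groth.Agent.HomShDual
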